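/-
In the symplectic case the common set of two noncommuting members is the nonsingular vectors of a quadratic form.
-/
import Cfsg.Agent.Lib.Fischer.VecCoord

set_option autoImplicit false
set_option linter.unusedSectionVars false

namespace CfsgFischer.Symp

open Cfsg CfsgThreeTrans FormTwo

universe u w

variable {G : Type u} [Group G] [Finite G] {D : Set G}
variable {W : Type w} [AddCommGroup W] [Module (ZMod 2) W] [Finite W] {B : LinearMap.BilinForm (ZMod 2) W}
variable {d : G} (C : VCoord D d B {a | a ≠ 0})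

open Classical in
/-- The indicator of the vectors of the partners of `d` commuting with `c`. -/
noncomputable def gS (c : G) (w : W) : ZMod 2 := if ∃ x ∈ Sc D d c, C.v x = w then 1 else 0

theorem gS_iff {c : G} {w : W} : gS C c w = 1 ↔ ∃ x ∈ Sc D d c, C.v x = w := by
  unfold gS
  split
  · exact iff_of_true rfl ‹_›
  · exact iff_of_false zero_ne_one ‹_›

theorem gS_zero (c : G) : gS C c 0 = 0 := by
  rw [← ne_one_iff, Ne, gS_iff]
  rintro ⟨x, hx, e⟩
  exact C.mem x hx.1 e

/-- A common partner splits its perp: exactly one of two vectors differing by it is in the common set. -/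
theorem split (hB : IsSymp B) (hD : IsThreeTranspositionClass D) (hd : d ∈ D) {c x : G} (hc : c ∈ D)
    (hdc : ¬ Commute d c) (hx : x ∈ Sc D d c) {z : W} (hzx : B z (C.v x) = 0) :
    gS C c (z + C.v x) = gS C c z + 1 := by
  classical
  have hX : C.v x ≠ 0 := C.mem x hx.1
  have hgX : gS C c (C.v x) = 1 := (gS_iff C).mpr ⟨x, hx, rfl⟩
  by_cases hz0 : z = 0
  · rw [hz0, zero_add, gS_zero, zero_add, hgX]
  by_cases hzX : z = C.v x
  · rw [hzX, vadd_self, gS_zero, hgX]
    decide
  obtain ⟨p, r, h, -, -, hpr, hmem, hback, hpres, -⟩ := C.link hD hd hc hdc hx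
  obtain ⟨w₀, η, hw₀, hη, hηp, hηr, hηu⟩ := FormTwo.lift hB hpr hX {u | u ≠ 0 ∧ B u p = 0 ∧ B u r = 0}
    (fun u hu => hu.2) (fun v h1 h2 => by
      by_cases hv : v = 0
      · subst hv; exact Submodule.zero_mem _
      · exact Submodule.subset_span ⟨hv, h1, h2⟩)
    h (fun u hu => (hmem u hu.1 hu.2.1 hu.2.2).1)
    (fun u hu u' hu' => hpres u hu.1 hu.2.1 hu.2.2 u' hu'.1 hu'.2.1 hu'.2.2)
  have hone : gS C c z = 1 ∨ gS C c (z + C.v x) = 1 := by
    set z' := z + B z w₀ • C.v x with hz'
    set u := η.symm z' with hu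
    have hz'0 : z' ≠ 0 := by
      rw [hz']
      rcases two_cases (B z w₀) with e | e <;> rw [e]
      · rwa [zero_smul, add_zero]
      · rw [one_smul]
        exact fun e => hzX (eq_of_add_eq_zero e)
    have hu0 : u ≠ 0 := fun e => hz'0 (η.symm.map_eq_zero_iff.mp e)
    have hu1 : B u p = 0 := by
      rw [← hη, hu, η.apply_symm_apply, hηp, hz', map_add, LinearMap.add_apply, hzx, map_smul, LinearMap.smul_apply,
        hB.self, smul_zero, add_zero]
    have hu2 : B u r = 0 := by
      rw [← hη, hu, η.apply_symm_apply, hηr, hz', map_add, LinearMap.add_apply, map_smul, LinearMap.smul_apply, hw₀,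
        smul_eq_mul, mul_one]
      exact add_self' _
    obtain ⟨-, -, y, hy, ey⟩ := hmem u hu0 hu1 hu2
    have e := hηu u ⟨hu0, hu1, hu2⟩
    rw [hu, η.apply_symm_apply, ← hu, hz'] at e
    have e2 : h u = z + (B z w₀ + B (h u) w₀) • C.v x := by rw [add_smul, ← add_assoc, e, add_cancel']
    rcases two_cases (B z w₀ + B (h u) w₀) with k | k <;> rw [k] at e2
    · rw [zero_smul, add_zero] at e2
      exact Or.inl ((gS_iff C).mpr ⟨y, hy, ey.trans e2⟩)
    · rw [one_smul] at e2
      exact Or.inr ((gS_iff C).mpr ⟨y, hy, ey.trans e2⟩)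
  have hnot : ¬ (gS C c z = 1 ∧ gS C c (z + C.v x) = 1) := by
    rintro ⟨h1, h2⟩
    obtain ⟨y, hy, rfl⟩ := (gS_iff C).mp h1
    obtain ⟨y', hy', ey'⟩ := (gS_iff C).mp h2
    have hyx : Commute x y := (C.comm x hx.1 y hy.1).mpr (by rw [hB.symm]; exact hzx)
    have hy'x : Commute x y' := (C.comm x hx.1 y' hy'.1).mpr
      (by rw [ey', map_add, hB.symm, hzx, hB.self, add_zero])
    obtain ⟨u, hu0, hu1, hu2, eu⟩ := hback y hy hyx fun e => hzX (e ▸ rfl)
    obtain ⟨u', hu0', hu1', hu2', eu'⟩ := hback y' hy' hy'x fun e => hz0 (add_eq_right.mp (e ▸ ey').symm)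
    have e1 := hηu u ⟨hu0, hu1, hu2⟩
    have e2 := hηu u' ⟨hu0', hu1', hu2'⟩
    rw [eu] at e1
    rw [eu', ey', map_add, LinearMap.add_apply, hw₀, add_smul, one_smul] at e2
    have e3 : η u = η u' := by
      rw [e1, e2, show C.v y + C.v x + (B (C.v y) w₀ • C.v x + C.v x) =
        C.v y + B (C.v y) w₀ • C.v x + (C.v x + C.v x) by abel, vadd_self, add_zero]
    rw [η.injective e3, eu', ey'] at eu
    exact hX (add_eq_left.mp eu)
  rcases two_cases (gS C c z) with e | e <;> rcases two_cases (gS C c (z + C.v x)) with e' | e' <;> rw [e, e']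
  · simp [e, e'] at hone
  · decide
  · decide
  · exact absurd ⟨e, e'⟩ hnot

/-- The quadratic law at a vector of the common set. -/
theorem law (hB : IsSymp B) (hD : IsThreeTranspositionClass D) (hd : d ∈ D) {c x : G} (hc : c ∈ D)
    (hdc : ¬ Commute d c) (hx : x ∈ Sc D d c) (z : W) :
    gS C c (C.v x + z) = gS C c (C.v x) + gS C c z + B (C.v x) z := by
  have hgX : gS C c (C.v x) = 1 := (gS_iff C).mpr ⟨x, hx, rfl⟩
  rcases two_cases (B (C.v x) z) with hb | hb
  · rw [add_comm, split C hB hD hd hc hdc hx (by rw [hB.symm]; exact hb), hgX, hb, add_zero, add_comm]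
  · have key : ∀ z, B (C.v x) z = 1 → gS C c z = 1 → gS C c (C.v x + z) = 1 := by
      intro z hb hz
      obtain ⟨y, hy, rfl⟩ := (gS_iff C).mp hz
      have hnc : ¬ Commute x y := fun h => by
        rw [(C.comm x hx.1 y hy.1).mp h] at hb
        exact zero_ne_one hb
      exact (gS_iff C).mpr ⟨y * x * y⁻¹, Sc_closed hD hx hy, C.conj x hx.1 y hy.1 hnc⟩
    rcases two_cases (gS C c z) with hz | hz
    · rcases two_cases (gS C c (C.v x + z)) with h | h
      · rw [h, hgX, hz, hb]
        decide
      · have := key (C.v x + z) (by rw [map_add, hB.self, zero_add, hb]) h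
        rw [add_cancel, hz] at this
        exact absurd this zero_ne_one
    · rw [key z hb hz, hgX, hz, hb]
      decide

/-- The common set is cut out by a quadratic form. -/
theorem gS_quad (hB : IsSymp B) (hdim : 4 ≤ Module.finrank (ZMod 2) W) (hD : IsThreeTranspositionClass D)
    (hp : IsPrimitiveUnderConj D) (hw : ∃ a ∈ D, ∃ b ∈ D, a ≠ b ∧ Commute a b) (hd : d ∈ D) {c : G} (hc : c ∈ D)
    (hdc : ¬ Commute d c) : IsQuad B (gS C c) := by
  classical
  haveI : Module.Finite (ZMod 2) W := Module.Finite.of_finite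
  let K : Submodule (ZMod 2) W :=
    { carrier := {a | ∀ z, gS C c (a + z) = gS C c a + gS C c z + B a z}
      add_mem' := fun {a b} ha hb z => by
        rw [add_assoc, ha, hb, ha b, map_add (B a), map_add, LinearMap.add_apply]
        ring
      zero_mem' := fun z => by rw [zero_add, gS_zero, map_zero, LinearMap.zero_apply, zero_add, add_zero]
      smul_mem' := fun t a ha => by
        rcases two_cases t with rfl | rfl
        · intro z; rw [zero_smul, zero_add, gS_zero, map_zero, LinearMap.zero_apply, zero_add, add_zero]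
        · rw [one_smul]; exact ha }
  suffices h : K = ⊤ by
    intro a z
    exact (h.symm ▸ Submodule.mem_top : a ∈ K) z
  by_contra hK
  obtain ⟨w, hwK⟩ : ∃ w, w ∉ K := by
    by_contra h
    push Not at h
    exact hK (eq_top_iff.mpr fun a _ => h a)
  obtain ⟨f, hfw, hfK⟩ := Submodule.exists_dual_map_eq_bot_of_notMem hwK inferInstance
  obtain ⟨t, ht⟩ := hB.exists_rep f
  have ht0 : t ≠ 0 := fun e => hfw (by rw [ht, e, map_zero])
  have hSt : ∀ x ∈ Sc D d c, B (C.v x) t = 0 := fun x hx => by
    rw [← ht]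
    exact (Submodule.mem_bot _).mp (hfK ▸ Submodule.mem_map_of_mem
      (show C.v x ∈ K from law C hB hD hd hc hdc hx))
  have hperp : ∀ x ∈ Sc D d c, ∀ z, B z (C.v x) = 0 → B z t = 0 := by
    intro x hx z hz
    by_cases h : gS C c z = 1
    · obtain ⟨y, hy, rfl⟩ := (gS_iff C).mp h
      exact hSt y hy
    · have h' := split C hB hD hd hc hdc hx hz
      rw [ne_one_iff.mp h, zero_add] at h'
      obtain ⟨y, hy, ey⟩ := (gS_iff C).mp h'
      have := hSt y hy
      rwa [ey, map_add, LinearMap.add_apply, hSt x hx, add_zero] at this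
  have heq : ∀ x ∈ Sc D d c, C.v x = t := by
    intro x hx
    by_contra hne
    have hnot : t ∉ Submodule.span (ZMod 2) {C.v x} := by
      rw [Submodule.mem_span_singleton]
      rintro ⟨a, ha⟩
      rcases two_cases a with rfl | rfl
      · rw [zero_smul] at ha; exact ht0 ha.symm
      · rw [one_smul] at ha; exact hne ha
    obtain ⟨g', hg't, hg'x⟩ := Submodule.exists_dual_map_eq_bot_of_notMem hnot inferInstance
    obtain ⟨z, hz⟩ := hB.exists_rep g'
    apply hg't
    rw [hz, hB.symm]
    refine hperp x hx z ?_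
    rw [hB.symm, ← hz]
    exact (Submodule.mem_bot _).mp (hg'x ▸ Submodule.mem_map_of_mem (Submodule.mem_span_singleton_self _))
  obtain ⟨x, hx⟩ : ∃ x, x ∈ Sc D d c := exists_common hD hp hw hd hc hdc
  obtain ⟨z, hz, hzout⟩ : ∃ z, B z (C.v x) = 0 ∧ z ∉ Submodule.span (ZMod 2) {C.v x} := by
    by_contra hno
    push Not at hno
    have hle : LinearMap.ker (B.flip (C.v x)) ≤ Submodule.span (ZMod 2) {C.v x} := fun z hz => hno z hz
    have h1 := (B.flip (C.v x)).finrank_range_add_finrank_ker
    have h2 := Submodule.finrank_le (LinearMap.range (B.flip (C.v x)))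
    rw [Module.finrank_self] at h2
    have h3 := (Submodule.finrank_mono hle).trans (finrank_span_singleton (C.mem x hx.1)).le
    omega
  have hzne : z ≠ C.v x := fun e => hzout (e ▸ Submodule.mem_span_singleton_self _)
  have hz0 : z ≠ 0 := fun e => hzout (by rw [e]; exact Submodule.zero_mem _)
  by_cases h : gS C c z = 1
  · obtain ⟨y, hy, rfl⟩ := (gS_iff C).mp h
    exact hzne ((heq y hy).trans (heq x hx).symm)
  · have h' := split C hB hD hd hc hdc hx hz
    rw [ne_one_iff.mp h, zero_add] at h'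
    obtain ⟨y, hy, ey⟩ := (gS_iff C).mp h'
    exact hz0 (add_eq_right.mp ((heq y hy).symm.trans ey |>.symm.trans (heq x hx).symm))

end CfsgFischer.Symp
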