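/-
The symplectic case: the class is the set of nonsingular vectors of the sum of an anisotropic plane and the local
space, and the group is the whole isometry group.
-/
import Cfsg.Agent.Lib.Fischer.StepSymp.Shape
import Cfsg.Agent.Lib.Fischer.StepSym

set_option autoImplicit false
set_option linter.unusedSectionVars false

namespace CfsgFischer.Symp

open Cfsg CfsgThreeTrans FormTwo

universe u w

variable {G : Type u} [Group G] [Finite G] {D : Set G}
variable {W : Type w} [AddCommGroup W] [Module (ZMod 2) W] [Finite W] {B : LinearMap.BilinForm (ZMod 2) W}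
variable {d : G}

open Classical in
/-- The noncommuting relation with values in the field. -/
noncomputable def row (a t : G) : ZMod 2 := if Commute a t then 0 else 1

theorem row_zero {a t : G} (h : Commute a t) : row a t = 0 := if_pos h

theorem row_one {a t : G} (h : ¬ Commute a t) : row a t = 1 := if_neg h

theorem row_symm (a t : G) : row a t = row t a := by
  by_cases h : Commute a t
  · rw [row_zero h, row_zero h.symm]
  · rw [row_one h, row_one fun h' => h h'.symm]

theorem row_eq_zero {a t : G} (h : row a t = 0) : Commute a t := by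
  by_contra hc
  rw [row_one hc] at h
  exact one_ne_zero h

theorem row_pair (C : VCoord D d B {a | a ≠ 0}) {x y : G} (hx : x ∈ Ds D d) (hy : y ∈ Ds D d) :
    row x y = B (C.v x) (C.v y) := by
  by_cases h : Commute x y
  · rw [row_zero h, (C.comm x hx y hy).mp h]
  · rw [row_one h, eq_one fun e => h ((C.comm x hx y hy).mpr e)]

theorem row_far (C : VCoord D d B {a | a ≠ 0}) {x t : G} (hx : x ∈ Ds D d) (hdt : ¬ Commute d t) :
    row x t = gS C t (C.v x) + 1 := by
  by_cases h : Commute x t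
  · rw [row_zero h, (gS_iff C).mpr ⟨x, mem_Sc hdt hx h.symm, rfl⟩]
    decide
  · rw [row_one h]
    suffices gS C t (C.v x) = 0 by rw [this, zero_add]
    rw [← ne_one_iff, Ne, gS_iff]
    rintro ⟨y, hy, e⟩
    exact h (C.inj y hy.1 x hx e ▸ hy.2.2.2.symm)

section
variable (hB : IsSymp B) (hdim : 4 ≤ Module.finrank (ZMod 2) W) (hD : IsThreeTranspositionClass D)
  (hp : IsPrimitiveUnderConj D) (hw : ∃ a ∈ D, ∃ b ∈ D, a ≠ b ∧ Commute a b)
include hB hdim hD hp hw

/-- Every member commutes with one or three members of every line. -/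
theorem row_line (hd : d ∈ D) (C : VCoord D d B {a | a ≠ 0}) {a t e : G} (ha : a ∈ D) (ht : t ∈ D)
    (hat : ¬ Commute a t) (he : e ∈ D) : row (a * t * a⁻¹) e = row t e + row a e := by
  obtain ⟨k, hka, hkt⟩ := exists_common hD hp hw ha ht hat
  obtain ⟨E⟩ := C.exists_at hD hd hka.1
  have hak : a ∈ Ds D k := mem_both ha hka
  have htk : t ∈ Ds D k := mem_both ht hkt
  have hsk : a * t * a⁻¹ ∈ Ds D k := Ds_closed_mem hD htk hak
  have hv : E.v (a * t * a⁻¹) = E.v t + E.v a := E.conj t htk a hak fun h => hat h.symm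
  by_cases hek : e = k
  · subst hek
    rw [row_zero hsk.2.2.symm, row_zero hak.2.2.symm, row_zero htk.2.2.symm, add_zero]
  by_cases hc : Commute k e
  · have hee : e ∈ Ds D k := ⟨he, hek, hc⟩
    rw [row_pair E hsk hee, row_pair E hak hee, row_pair E htk hee, hv, map_add, LinearMap.add_apply]
  · have hq := gS_quad E hB hdim hD hp hw hka.1 he hc
    rw [row_far E hsk hc, row_far E hak hc, row_far E htk hc, hv, hq,
      eq_one (a := B (E.v t) (E.v a)) fun h => hat ((E.comm a hak t htk).mpr (by rw [hB.symm]; exact h))]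
    ring

variable (hd : d ∈ D) {c : G} (hc : c ∈ D) (hdc : ¬ Commute d c) (C : VCoord D d B {a | a ≠ 0})
include hd hc hdc

/-- The space. -/
abbrev Sp (W : Type w) : Type w := (ZMod 2 × ZMod 2) × W

omit hB hdim hD hp hw hd hc hdc in
/-- The form on the space. -/
noncomputable def Qv (c : G) (x : Sp W) : ZMod 2 := x.1.1 + x.1.2 + x.1.1 * x.1.2 + gS C c x.2

/-- The bilinear form on the space. -/
noncomputable def Bv (B : LinearMap.BilinForm (ZMod 2) W) : LinearMap.BilinForm (ZMod 2) (Sp W) :=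
  LinearMap.mk₂ (ZMod 2) (fun x y => x.1.1 * y.1.2 + x.1.2 * y.1.1 + B x.2 y.2)
    (fun x x' y => by simp [add_mul]; ring) (fun a x y => by simp; ring)
    (fun x y y' => by simp [mul_add]; ring) (fun a x y => by simp; ring)

omit hB hdim hD hp hw hd hc hdc in
theorem Bv_apply (x y : Sp W) : Bv B x y = x.1.1 * y.1.2 + x.1.2 * y.1.1 + B x.2 y.2 := rfl

theorem Qv_quad : IsQuad (Bv B) (Qv C c) := fun x y => by
  have hg := gS_quad C hB hdim hD hp hw hd hc hdc x.2 y.2
  simp only [Qv, Bv_apply, Prod.fst_add, Prod.snd_add, hg]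
  ring

omit hdim hD hp hw hd hc hdc in
theorem Bv_symp : IsSymp (Bv B) := by
  refine ⟨fun x => ?_, fun x h => ?_⟩
  · rw [Bv_apply, hB.self, add_zero, mul_comm x.1.2]
    exact add_self' _
  · have h1 : x.1.2 = 0 := by simpa [Bv_apply] using h ((1, 0), 0)
    have h2 : x.1.1 = 0 := by simpa [Bv_apply] using h ((0, 1), 0)
    have h3 : x.2 = 0 := hB.nd _ fun y => by simpa [Bv_apply] using h ((0, 0), y)
    exact Prod.ext (Prod.ext h2 h1) h3

/-- The vector of a member commuting with `d`, or of `d` or `c`. -/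
def IsGen (a : G) (A : Sp W) : Prop :=
  (a = d ∧ A = ((1, 0), 0)) ∨ (a = c ∧ A = ((0, 1), 0)) ∨
    (a ∈ Ds D d ∧ A = ((gS C c (C.v a) + 1, 0), C.v a))

open Classical in
/-- The evaluation of a vector at a member. -/
noncomputable def ev (d c : G) (C : VCoord D d B {a | a ≠ 0}) (x : Sp W) (t : G) : ZMod 2 :=
  x.1.1 * row d t + x.1.2 * row c t +
    if t = d then 0 else if Commute d t then B x.2 (C.v t) else gS C t x.2 + gS C c x.2

theorem ev_add (x y : Sp W) {t : G} (ht : t ∈ D) : ev d c C (x + y) t = ev d c C x t + ev d c C y t := by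
  unfold ev
  split_ifs with h1 h2
  · simp only [Prod.fst_add, Prod.snd_add]; ring
  · simp only [Prod.fst_add, Prod.snd_add, map_add, LinearMap.add_apply]; ring
  · simp only [Prod.fst_add, Prod.snd_add, gS_quad C hB hdim hD hp hw hd ht h2 x.2 y.2,
      gS_quad C hB hdim hD hp hw hd hc hdc x.2 y.2]
    linear_combination add_self' (B x.2 y.2)

theorem ev_zero {t : G} : ev d c C 0 t = 0 := by
  unfold ev
  split_ifs <;> simp [gS_zero]

theorem ev_smul (a : ZMod 2) (x : Sp W) {t : G} : ev d c C (a • x) t = a * ev d c C x t := by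
  rcases two_cases a with rfl | rfl
  · rw [zero_smul, zero_mul, ev_zero hB hdim hD hp hw hd hc hdc C]
  · rw [one_smul, one_mul]

theorem ev_d (x : Sp W) : ev d c C x d = x.1.2 := by
  unfold ev
  rw [if_pos rfl, row_zero (Commute.refl d), row_one fun h => hdc h.symm]
  ring

theorem ev_c (x : Sp W) : ev d c C x c = x.1.1 := by
  unfold ev
  rw [if_neg fun h => hdc (by rw [h]), if_neg hdc, row_one hdc, row_zero (Commute.refl c), add_self']
  ring

theorem ev_Ds (x : Sp W) {y : G} (hy : y ∈ Ds D d) :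
    ev d c C x y = x.1.2 * (gS C c (C.v y) + 1) + B x.2 (C.v y) := by
  unfold ev
  rw [if_neg hy.2.1, if_pos hy.2.2, row_zero hy.2.2, row_symm c y, row_far C hy hdc]
  ring

theorem gen_mem {a : G} {A : Sp W} (h : IsGen C (c := c) a A) : a ∈ D ∧ Qv C c A = 1 := by
  rcases h with ⟨rfl, rfl⟩ | ⟨rfl, rfl⟩ | ⟨ha, rfl⟩
  · exact ⟨hd, by simp [Qv, gS_zero]⟩
  · exact ⟨hc, by simp [Qv, gS_zero]⟩
  · refine ⟨ha.1, ?_⟩
    simp only [Qv]
    linear_combination add_self' (gS C c (C.v a))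

theorem ev_at_gen (x : Sp W) {a : G} {A : Sp W} (h : IsGen C (c := c) a A) : ev d c C x a = Bv B x A := by
  rcases h with ⟨rfl, rfl⟩ | ⟨rfl, rfl⟩ | ⟨ha, rfl⟩
  · rw [ev_d hB hdim hD hp hw hd hc hdc C, Bv_apply]; simp
  · rw [ev_c hB hdim hD hp hw hd hc hdc C, Bv_apply]; simp
  · rw [ev_Ds hB hdim hD hp hw hd hc hdc C x ha, Bv_apply]; simp

theorem gen_ev {a : G} {A : Sp W} (h : IsGen C (c := c) a A) {e : G} (he : e ∈ D) :
    ev d c C A e = row a e := by
  rcases h with ⟨rfl, rfl⟩ | ⟨rfl, rfl⟩ | ⟨ha, rfl⟩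
  · unfold ev; split_ifs <;> simp [gS_zero]
  · unfold ev; split_ifs <;> simp [gS_zero]
  · by_cases hed : e = d
    · subst hed
      rw [ev_d hB hdim hD hp hw hd hc hdc C, row_zero ha.2.2.symm]
    by_cases hde : Commute d e
    · rw [ev_Ds hB hdim hD hp hw hd hc hdc C _ ⟨he, hed, hde⟩, row_pair C ha ⟨he, hed, hde⟩, zero_mul, zero_add]
    · unfold ev
      rw [if_neg hed, if_neg hde, row_one hde, row_far C ha hde]
      linear_combination add_self' (gS C c (C.v a))

theorem ev_inj {x y : Sp W} (h : ∀ e ∈ D, ev d c C x e = ev d c C y e) : x = y := by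
  have h1 := h d hd
  rw [ev_d hB hdim hD hp hw hd hc hdc C, ev_d hB hdim hD hp hw hd hc hdc C] at h1
  have h2 := h c hc
  rw [ev_c hB hdim hD hp hw hd hc hdc C, ev_c hB hdim hD hp hw hd hc hdc C] at h2
  refine Prod.ext (Prod.ext h2 h1) (hB.ext fun z => ?_)
  by_cases hz : z = 0
  · rw [hz, map_zero, map_zero]
  obtain ⟨t, ht, rfl⟩ := C.surj z hz
  have h3 := h t ht.1
  rw [ev_Ds hB hdim hD hp hw hd hc hdc C _ ht, ev_Ds hB hdim hD hp hw hd hc hdc C _ ht, h1] at h3
  exact add_left_cancel h3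

theorem exists_gen {a : G} (h : a = d ∨ a = c ∨ a ∈ Ds D d) : ∃ A, IsGen C (c := c) a A := by
  rcases h with h | h | h
  exacts [⟨_, Or.inl ⟨h, rfl⟩⟩, ⟨_, Or.inr (Or.inl ⟨h, rfl⟩)⟩, ⟨_, Or.inr (Or.inr ⟨h, rfl⟩)⟩]

/-- Every member is a nonsingular vector. -/
theorem exists_vec {t : G} (ht : t ∈ D) : ∃ x, Qv C c x = 1 ∧ ∀ e ∈ D, ev d c C x e = row t e := by
  classical
  have hq := Qv_quad hB hdim hD hp hw hd hc hdc C
  set S : Set G := {t | t ∈ D ∧ ∃ x, Qv C c x = 1 ∧ ∀ e ∈ D, ev d c C x e = row t e}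
  set Gn : Set G := {a | a = d ∨ a = c ∨ a ∈ Ds D d}
  have hgen : Subgroup.closure Gn = ⊤ :=
    eq_top_of_far hD hp hw hd hc hdc _ (Subgroup.subset_closure (Or.inl rfl))
      (Subgroup.subset_closure (Or.inr (Or.inl rfl))) fun y hy => Subgroup.subset_closure (Or.inr (Or.inr hy))
  have hstep : ∀ a ∈ Gn, ∀ s ∈ S, a * s * a⁻¹ ∈ S := by
    intro a ha s hs
    obtain ⟨A, hA⟩ := exists_gen hB hdim hD hp hw hd hc hdc C ha
    obtain ⟨haD, hQA⟩ := gen_mem hB hdim hD hp hw hd hc hdc C hA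
    obtain ⟨hsD, x, hx, hrow⟩ := hs
    refine ⟨cls_conj hD a hsD, ?_⟩
    by_cases hac : Commute a s
    · rw [hac.eq, mul_inv_cancel_right]; exact ⟨x, hx, hrow⟩
    refine ⟨x + A, ?_, fun e he => ?_⟩
    · rw [hq, hx, hQA, ← ev_at_gen hB hdim hD hp hw hd hc hdc C x hA, hrow a haD, row_one fun h => hac h.symm]
      decide
    · rw [ev_add hB hdim hD hp hw hd hc hdc C _ _ he, hrow e he, gen_ev hB hdim hD hp hw hd hc hdc C hA he,
        row_line hB hdim hD hp hw hd C haD hsD hac he]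
  have hinv : ∀ g : G, ∀ s ∈ S, g * s * g⁻¹ ∈ S := by
    intro g
    have hg : g ∈ Subgroup.closure Gn := hgen ▸ Subgroup.mem_top g
    refine Subgroup.closure_induction'' (p := fun g _ => ∀ s ∈ S, g * s * g⁻¹ ∈ S) hstep ?_ ?_ ?_ hg
    · intro a ha
      obtain ⟨A, hA⟩ := exists_gen hB hdim hD hp hw hd hc hdc C ha
      rw [inv_self hD.1 (gen_mem hB hdim hD hp hw hd hc hdc C hA).1]
      exact hstep a ha
    · intro s hs; simpa using hs
    · intro a b _ _ iha ihb s hs
      rw [← cj_cj]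
      exact iha _ (ihb s hs)
  have hS : S = D := eq_cls_of_invariant hD (fun s hs => hs.1)
    ⟨d, hd, _, (gen_mem hB hdim hD hp hw hd hc hdc C (Or.inl ⟨rfl, rfl⟩)).2,
      fun e he => gen_ev hB hdim hD hp hw hd hc hdc C (Or.inl ⟨rfl, rfl⟩) he⟩ hinv
  exact (hS.symm ▸ ht : t ∈ S).2

/-- The class is the set of nonsingular vectors and the group is their isometry group. -/
theorem space (hZ : Subgroup.center G = ⊥) :
    ∃ (vec : G → Sp W) (ρ : G → (Sp W ≃ₗ[ZMod 2] Sp W)),
      (∀ t ∈ D, Qv C c (vec t) = 1) ∧ (∀ x, Qv C c x = 1 → ∃ t ∈ D, vec t = x) ∧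
      (∀ t ∈ D, ∀ x, ρ t x = x + Bv B x (vec t) • vec t) ∧ (∀ g h x, ρ (g * h) x = ρ g (ρ h x)) ∧
      (∀ g, (∀ x, ρ g x = x) → g = 1) ∧ (∀ g x, Qv C c (ρ g x) = Qv C c x) ∧
      ∀ γ : Sp W ≃ₗ[ZMod 2] Sp W, (∀ x, Qv C c (γ x) = Qv C c x) → ∃ g, ∀ x, ρ g x = γ x := by
  classical
  have hq := Qv_quad hB hdim hD hp hw hd hc hdc C
  have hsymp := Bv_symp (B := B) hB
  choose! vec hQvec hrow using fun t (ht : t ∈ D) => exists_vec hB hdim hD hp hw hd hc hdc C ht
  have hgvec : ∀ {a A}, IsGen C (c := c) a A → vec a = A := fun {a A} h =>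
    ev_inj hB hdim hD hp hw hd hc hdc C fun e he => by
      rw [hrow a (gen_mem hB hdim hD hp hw hd hc hdc C h).1 e he, gen_ev hB hdim hD hp hw hd hc hdc C h he]
  have hvd : vec d = ((1, 0), 0) := hgvec (Or.inl ⟨rfl, rfl⟩)
  have hvc : vec c = ((0, 1), 0) := hgvec (Or.inr (Or.inl ⟨rfl, rfl⟩))
  have hvs : ∀ y ∈ Ds D d, vec y = ((gS C c (C.v y) + 1, 0), C.v y) := fun y hy => hgvec (Or.inr (Or.inr ⟨hy, rfl⟩))
  -- linear maps agreeing on the generators agree
  have hspan : ∀ (M M' : Sp W → Sp W), (∀ x y, M (x + y) = M x + M y) → (∀ x y, M' (x + y) = M' x + M' y) →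
      (∀ t ∈ D, M (vec t) = M' (vec t)) → ∀ x, M x = M' x := by
    intro M M' hM hM' h x
    let K : AddSubgroup (Sp W) := AddMonoidHom.eqLocus (AddMonoidHom.mk' M hM) (AddMonoidHom.mk' M' hM')
    have hmem : ∀ t ∈ D, vec t ∈ K := h
    have hd' : (((1, 0), 0) : Sp W) ∈ K := hvd ▸ hmem d hd
    have hc' : (((0, 1), 0) : Sp W) ∈ K := hvc ▸ hmem c hc
    have ha : ∀ a : ZMod 2, ((((a, 0), 0)) : Sp W) ∈ K := fun a => by
      rcases two_cases a with rfl | rfl
      · exact K.zero_mem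
      · exact hd'
    have hb : ∀ a : ZMod 2, ((((0, a), 0)) : Sp W) ∈ K := fun a => by
      rcases two_cases a with rfl | rfl
      · exact K.zero_mem
      · exact hc'
    have hw' : ∀ w : W, (((0, 0), w) : Sp W) ∈ K := fun w => by
      by_cases hw0 : w = 0
      · subst hw0; exact K.zero_mem
      obtain ⟨y, hy, rfl⟩ := C.surj w hw0
      have := K.add_mem (ha (gS C c (C.v y) + 1)) (hvs y hy ▸ hmem y hy.1)
      simpa [add_self'] using this
    have hx : x = ((x.1.1, 0), 0) + ((0, x.1.2), 0) + ((0, 0), x.2) := by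
      ext <;> simp
    rw [hx]
    exact K.add_mem (K.add_mem (ha _) (hb _)) (hw' _)
  have hevB : ∀ t ∈ D, ∀ x, ev d c C x t = Bv B x (vec t) := by
    intro t ht x
    let L : Sp W →+ ZMod 2 := AddMonoidHom.mk' (fun x => ev d c C x t + Bv B x (vec t)) fun x y => by
      simp only [ev_add hB hdim hD hp hw hd hc hdc C x y ht, map_add, LinearMap.add_apply]; ring
    have hg : ∀ {a A}, IsGen C (c := c) a A → L A = 0 := fun {a A} h => by
      show ev d c C A t + Bv B A (vec t) = 0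
      rw [gen_ev hB hdim hD hp hw hd hc hdc C h ht, hsymp.symm, ← ev_at_gen hB hdim hD hp hw hd hc hdc C _ h,
        hrow t ht a (gen_mem hB hdim hD hp hw hd hc hdc C h).1, row_symm t a]
      exact add_self' _
    have ha : ∀ a : ZMod 2, L ((a, 0), 0) = 0 := fun a => by
      rcases two_cases a with rfl | rfl
      · exact L.map_zero
      · exact hg (Or.inl ⟨rfl, rfl⟩)
    have hb : ∀ a : ZMod 2, L ((0, a), 0) = 0 := fun a => by
      rcases two_cases a with rfl | rfl
      · exact L.map_zero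
      · exact hg (Or.inr (Or.inl ⟨rfl, rfl⟩))
    have hw' : ∀ w : W, L ((0, 0), w) = 0 := fun w => by
      by_cases hw0 : w = 0
      · subst hw0; exact L.map_zero
      obtain ⟨y, hy, rfl⟩ := C.surj w hw0
      have e : (((0, 0), C.v y) : Sp W) =
          ((gS C c (C.v y) + 1, 0), 0) + ((gS C c (C.v y) + 1, 0), C.v y) := by
        ext <;> simp [add_self']
      rw [e, map_add, ha, hg (Or.inr (Or.inr ⟨hy, rfl⟩)), add_zero]
    have hx : x = ((x.1.1, 0), 0) + ((0, x.1.2), 0) + ((0, 0), x.2) := by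
      ext <;> simp
    have h0 : L x = 0 := by rw [hx, map_add, map_add, ha, hb, hw', add_zero, add_zero]
    exact (by decide : ∀ u v : ZMod 2, u + v = 0 → u = v) _ _ h0
  have hinj : ∀ t ∈ D, ∀ s ∈ D, vec t = vec s → t = s := by
    intro t ht s hs e
    have hv : t ∈ Vs D s := ⟨ht, fun f hf => by
      have h1 := hrow t ht f hf
      rw [e, hrow s hs f hf] at h1
      exact ⟨fun h => row_eq_zero (h1.trans (row_zero h)), fun h => row_eq_zero (h1.symm.trans (row_zero h))⟩⟩
    rw [Vs_trivial hD hp hs] at hv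
    exact hv
  have hconj : ∀ a ∈ D, ∀ t ∈ D, vec (a * t * a⁻¹) = vec t + Bv B (vec t) (vec a) • vec a := by
    intro a ha t ht
    refine ev_inj hB hdim hD hp hw hd hc hdc C fun e he => ?_
    rw [hrow _ (cls_conj hD a ht) e he, ev_add hB hdim hD hp hw hd hc hdc C _ _ he,
      ev_smul hB hdim hD hp hw hd hc hdc C, hrow t ht e he, hrow a ha e he, ← hevB a ha, hrow t ht a ha]
    by_cases hat : Commute a t
    · rw [hat.eq, mul_inv_cancel_right, row_zero hat.symm, zero_mul, add_zero]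
    · rw [row_line hB hdim hD hp hw hd C ha ht hat he, row_one fun h => hat h.symm, one_mul]
  have hexists : ∀ g : G, ∃ γ : Sp W ≃ₗ[ZMod 2] Sp W,
      (∀ x, Qv C c (γ x) = Qv C c x) ∧ ∀ t ∈ D, γ (vec t) = vec (g * t * g⁻¹) := by
    intro g
    have hg : g ∈ Subgroup.closure D := hD.2.2 ▸ Subgroup.mem_top g
    refine Subgroup.closure_induction (p := fun g _ => ∃ γ : Sp W ≃ₗ[ZMod 2] Sp W,
      (∀ x, Qv C c (γ x) = Qv C c x) ∧ ∀ t ∈ D, γ (vec t) = vec (g * t * g⁻¹)) ?_ ?_ ?_ ?_ hg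
    · exact fun a ha => ⟨trans hsymp (vec a), fun x => hq.trans_form hsymp (hQvec a ha) x,
        fun t ht => (hconj a ha t ht).symm⟩
    · exact ⟨LinearEquiv.refl _ _, fun x => rfl, fun t _ => by simp⟩
    · rintro a b - - ⟨α, h1, h2⟩ ⟨β, h3, h4⟩
      exact ⟨β.trans α, fun x => by rw [LinearEquiv.trans_apply, h1, h3],
        fun t ht => by rw [LinearEquiv.trans_apply, h4 t ht, h2 _ (cls_conj hD b ht), cj_cj]⟩
    · rintro a - ⟨α, h1, h2⟩
      refine ⟨α.symm, fun x => ?_, fun t ht => ?_⟩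
      · conv_rhs => rw [← α.apply_symm_apply x, h1]
      · rw [LinearEquiv.symm_apply_eq, h2 _ (cls_conj hD a⁻¹ ht), cj_inv]
  choose ρ hρQ hρv using hexists
  have huniq : ∀ (g : G) (γ : Sp W → Sp W), (∀ x y, γ (x + y) = γ x + γ y) →
      (∀ t ∈ D, γ (vec t) = vec (g * t * g⁻¹)) → ∀ x, ρ g x = γ x := fun g γ h1 h2 =>
    hspan _ _ (fun x y => map_add (ρ g) x y) h1 fun t ht => by rw [hρv g t ht, h2 t ht]
  have hρD : ∀ a ∈ D, ∀ x, ρ a x = x + Bv B x (vec a) • vec a := fun a ha =>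
    huniq a _ (fun x y => map_add (transMap (Bv B) (vec a)) x y) fun t ht => (hconj a ha t ht).symm
  have hρm : ∀ g h x, ρ (g * h) x = ρ g (ρ h x) := fun g h =>
    huniq (g * h) _ (fun x y => by rw [map_add, map_add]) fun t ht => by
      rw [hρv h t ht, hρv g _ (cls_conj hD h ht), cj_cj]
  have hρinj : ∀ g, (∀ x, ρ g x = x) → g = 1 := fun g hg => by
    refine Subgroup.mem_bot.mp (hZ ▸ mem_center_of_commute_cls hD fun e he => ?_)
    exact mul_inv_eq_iff_eq_mul.mp (hinj _ (cls_conj hD g he) e he ((hρv g e he).symm.trans (hg _)))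
  have hBd : ∀ x, Bv B x (vec d) = x.1.2 := fun x => by rw [hvd, Bv_apply]; simp
  -- surjectivity on vectors
  have hdcd : ((1, 1), (0 : W)) = vec (d * c * d⁻¹) := by
    rw [hconj d hd c hc, hBd, hvc, hvd]
    ext <;> simp
  have hsurj : ∀ x, Qv C c x = 1 → ∃ t ∈ D, vec t = x := by
    rintro ⟨⟨a, b⟩, w⟩ hx
    simp only [Qv] at hx
    by_cases hw0 : w = 0
    · subst hw0
      rw [gS_zero, add_zero] at hx
      rcases two_cases a with rfl | rfl <;> rcases two_cases b with rfl | rfl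
      · simp at hx
      · exact ⟨c, hc, hvc⟩
      · exact ⟨d, hd, hvd⟩
      · exact ⟨_, cls_conj hD d hc, hdcd.symm⟩
    obtain ⟨y, hy, rfl⟩ := C.surj w hw0
    rcases two_cases (gS C c (C.v y)) with hg | hg
    · have hs := hvs y hy
      rw [hg, zero_add] at hs
      rcases two_cases a with rfl | rfl <;> rcases two_cases b with rfl | rfl
      · rw [hg] at hx; simp at hx
      · refine ⟨_, cls_conj hD (d * c * d⁻¹) hy.1, ?_⟩
        rw [hconj _ (cls_conj hD d hc) y hy.1, ← hdcd, hs, Bv_apply]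
        ext <;> simp [add_self']
      · exact ⟨y, hy.1, hs⟩
      · refine ⟨_, cls_conj hD c hy.1, ?_⟩
        rw [hconj c hc y hy.1, hvc, hs, Bv_apply]
        ext <;> simp
    · have hs := hvs y hy
      rw [hg, show (1 : ZMod 2) + 1 = 0 by decide] at hs
      rcases two_cases a with rfl | rfl <;> rcases two_cases b with rfl | rfl
      · exact ⟨y, hy.1, hs⟩
      all_goals (rw [hg] at hx; exact absurd hx (by decide))
  refine ⟨vec, ρ, hQvec, hsurj, hρD, hρm, hρinj, hρQ, fun γ hγ => ?_⟩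
  -- surjectivity on isometries
  obtain ⟨t, ht, het⟩ := hsurj (γ (vec d)) (by rw [hγ, hQvec d hd])
  obtain ⟨g₀, rfl⟩ := cls_exists_conj hD hd ht
  suffices main : ∀ δ : Sp W ≃ₗ[ZMod 2] Sp W, (∀ x, Qv C c (δ x) = Qv C c x) → δ (vec d) = vec d →
      ∃ g, ∀ x, ρ g x = δ x by
    have hfix : (γ.trans (ρ g₀).symm) (vec d) = vec d := by
      rw [LinearEquiv.trans_apply, LinearEquiv.symm_apply_eq, hρv g₀ d hd, het]
    obtain ⟨g, hg⟩ := main (γ.trans (ρ g₀).symm) (fun x => by
      rw [LinearEquiv.trans_apply, ← hρQ g₀, LinearEquiv.apply_symm_apply, hγ]) hfix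
    exact ⟨g₀ * g, fun x => by rw [hρm, hg, LinearEquiv.trans_apply, LinearEquiv.apply_symm_apply]⟩
  intro δ hδ hδd
  have hδB : ∀ x y, Bv B (δ x) (δ y) = Bv B x y := fun x y => by
    have h1 := hq (δ x) (δ y)
    rw [← map_add, hδ, hδ, hδ, hq x y] at h1
    exact (add_left_cancel h1).symm
  let i0 : W →ₗ[ZMod 2] Sp W := LinearMap.inr (ZMod 2) (ZMod 2 × ZMod 2) W
  have hi0 : ∀ w, i0 w = ((0, 0), w) := fun w => rfl
  have hb0 : ∀ w, (δ (i0 w)).1.2 = 0 := fun w => by
    rw [← hBd (δ (i0 w)), ← hδd, hδB, hBd, hi0]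
  let L : W →ₗ[ZMod 2] W := (LinearMap.snd (ZMod 2) (ZMod 2 × ZMod 2) W).comp (δ.toLinearMap.comp i0)
  have hL : ∀ w, L w = (δ (i0 w)).2 := fun w => rfl
  have hLB : ∀ x y, B (L x) (L y) = B x y := fun x y => by
    have h1 := hδB (i0 x) (i0 y)
    rw [Bv_apply, Bv_apply, hb0, hb0, mul_zero, zero_mul, zero_add, zero_add] at h1
    rw [hL, hL, h1, hi0, hi0]
    simp
  have hLinj : Function.Injective L := fun x y e => hB.ext fun z => by rw [← hLB, e, hLB]
  let Le : W ≃ₗ[ZMod 2] W := LinearEquiv.ofBijective L ⟨hLinj, Finite.injective_iff_surjective.mp hLinj⟩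
  obtain ⟨h, hhd, hh⟩ := trans_induction hB
    (fun γ' => ∃ h : G, Commute h d ∧ ∀ y ∈ Ds D d, C.v (h * y * h⁻¹) = γ' (C.v y))
    ⟨1, Commute.one_left d, fun y _ => by simp⟩ (fun u γ' hu ⟨h, hhd, hh⟩ => by
      obtain ⟨z, hz, rfl⟩ := C.surj u hu
      refine ⟨z * h, hz.2.2.symm.mul_left hhd, fun y hy => ?_⟩
      rw [← cj_cj, LinearEquiv.trans_apply, trans_apply, ← hh y hy]
      by_cases hc' : Commute (h * y * h⁻¹) z
      · rw [← hc'.eq, mul_inv_cancel_right, (C.comm _ (Ds_closed hD hhd hy) z hz).mp hc', zero_smul, add_zero]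
      · rw [C.conj _ (Ds_closed hD hhd hy) z hz hc',
          eq_one fun e => hc' ((C.comm _ (Ds_closed hD hhd hy) z hz).mpr e), one_smul]) Le hLB
  have hhd' : h * d * h⁻¹ = d := by rw [hhd.eq, mul_inv_cancel_right]
  have hsame : ∀ y ∈ Ds D d, ρ h (vec y) = δ (vec y) := by
    intro y hy
    have hy' := Ds_closed hD hhd hy
    have e : vec y = (gS C c (C.v y) + 1) • vec d + i0 (C.v y) := by
      rw [hvs y hy, hvd, hi0]
      ext <;> simp
    rw [hρv h y hy.1, hvs _ hy', hh y hy]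
    have hQ := hδ (vec y)
    rw [hQvec y hy.1] at hQ
    have h2 : (δ (vec y)).1.2 = 0 := by
      rw [← hBd (δ (vec y)), ← hδd, hδB, hBd, hvs y hy]
    have h3 : (δ (vec y)).2 = Le (C.v y) := by
      rw [e, map_add, map_smul, hδd, Prod.snd_add, Prod.smul_snd, hvd, smul_zero, zero_add]
      exact (hL _).symm
    simp only [Qv, h2, mul_zero, add_zero, h3] at hQ
    refine Prod.ext (Prod.ext ?_ h2.symm) h3.symm
    show gS C c (Le (C.v y)) + 1 = (δ (vec y)).1.1
    linear_combination add_self' (gS C c (Le (C.v y))) - hQ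
  set ε := δ.trans (ρ h).symm with hε
  have hεd : ε (vec d) = vec d := by
    rw [hε, LinearEquiv.trans_apply, hδd, LinearEquiv.symm_apply_eq, hρv h d hd, hhd']
  have hεy : ∀ y ∈ Ds D d, ε (vec y) = vec y := fun y hy => by
    rw [hε, LinearEquiv.trans_apply, LinearEquiv.symm_apply_eq, hsame y hy]
  have hεQ : ∀ x, Qv C c (ε x) = Qv C c x := fun x => by
    rw [hε, LinearEquiv.trans_apply, ← hρQ h, LinearEquiv.apply_symm_apply, hδ]
  have hεB : ∀ x y, Bv B (ε x) (ε y) = Bv B x y := fun x y => by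
    have h1 := hq (ε x) (ε y)
    rw [← map_add, hεQ, hεQ, hεQ, hq x y] at h1
    exact (add_left_cancel h1).symm
  have hcb : (ε (vec c)).1.2 = 1 := by
    rw [← hBd (ε (vec c)), ← hεd, hεB, hBd, hvc]
  have hcw : (ε (vec c)).2 = 0 := hB.nd _ fun z => by
    by_cases hz : z = 0
    · rw [hz, map_zero]
    obtain ⟨y, hy, rfl⟩ := C.surj z hz
    have h1 := hεB (vec c) (vec y)
    rw [hεy y hy, Bv_apply, Bv_apply, hcb, hvs y hy, hvc] at h1
    rw [hvc]
    simpa using h1
  have hcases : ε (vec c) = vec c ∨ ε (vec c) = vec (d * c * d⁻¹) := by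
    rcases two_cases (ε (vec c)).1.1 with e | e
    · left; exact (Prod.ext (Prod.ext e hcb) hcw : ε (vec c) = ((0, 1), 0)).trans hvc.symm
    · right; exact (Prod.ext (Prod.ext e hcb) hcw : ε (vec c) = ((1, 1), 0)).trans hdcd
  have key : ∀ k : G, k * d * k⁻¹ = d → (∀ y ∈ Ds D d, k * y * k⁻¹ = y) → ε (vec c) = vec (k * c * k⁻¹) →
      ∀ x, ρ k x = ε x := by
    intro k hkd hky hkc x
    have hK : ∀ y, (y = d ∨ y = c ∨ y ∈ Ds D d) → ρ k (vec y) = ε (vec y) := by
      rintro y (rfl | rfl | hy)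
      · rw [hρv k _ hd, hkd, hεd]
      · rw [hρv k _ hc, hkc]
      · rw [hρv k y hy.1, hky y hy, hεy y hy]
    have hlin : (x : Sp W) → x = x.1.1 • vec d + x.1.2 • vec c + i0 x.2 := fun x => by
      rw [hvd, hvc, hi0]
      ext <;> simp
    have hiw : ρ k (i0 x.2) = ε (i0 x.2) := by
      by_cases hx2 : x.2 = 0
      · rw [hx2, map_zero, map_zero, map_zero]
      obtain ⟨y, hy, e⟩ := C.surj x.2 hx2
      have e2 : i0 x.2 = vec y + (gS C c (C.v y) + 1) • vec d := by
        rw [hvs y hy, hvd, hi0, e]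
        ext <;> simp [add_self']
      rw [e2, map_add, map_add, map_smul, map_smul, hK y (Or.inr (Or.inr hy)), hK d (Or.inl rfl)]
    rw [hlin x, map_add, map_add, map_smul, map_smul, map_add, map_add, map_smul, map_smul, hK d (Or.inl rfl),
      hK c (Or.inr (Or.inl rfl)), hiw]
  rcases hcases with e | e
  · refine ⟨h, fun x => ?_⟩
    have := key 1 (by simp) (fun y _ => by simp) (by rw [e]; simp) x
    rw [show ρ h x = ρ h (ρ 1 x) by rw [← hρm, mul_one], this, hε, LinearEquiv.trans_apply,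
      LinearEquiv.apply_symm_apply]
  · refine ⟨h * d, fun x => ?_⟩
    rw [hρm, key d (mul_inv_cancel_right d d) (fun y hy => by rw [hy.2.2.eq, mul_inv_cancel_right]) e x, hε,
      LinearEquiv.trans_apply, LinearEquiv.apply_symm_apply]

end

end CfsgFischer.Symp
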