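/-
The step from a symplectic group over two elements: orthogonal groups in two dimensions more, or the symmetric
group of degree eight.
-/
import Cfsg.Agent.Lib.Fischer.StepSymp.Space
import Cfsg.Agent.Lib.Fischer.StepOrth
import Cfsg.Agent.Lib.FiniteForms.WittBasis

set_option autoImplicit false
set_option linter.unusedSectionVars false

namespace CfsgFischer.Symp

open Cfsg CfsgThreeTrans FormTwo QuadraticMap

universe u w

variable {G : Type u} [Group G] [Finite G] {D : Set G}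
variable {W : Type w} [AddCommGroup W] [Module (ZMod 2) W] [Finite W] {B : LinearMap.BilinForm (ZMod 2) W}
variable {d c : G}

/-- Coordinates on the space give an identification with the isometry group and its transvections. -/
theorem transport (hB : IsSymp B) (hdim : 4 ≤ Module.finrank (ZMod 2) W) (hD : IsThreeTranspositionClass D)
    (hp : IsPrimitiveUnderConj D) (hw : ∃ a ∈ D, ∃ b ∈ D, a ≠ b ∧ Commute a b) (hd : d ∈ D) (hc : c ∈ D)
    (hdc : ¬ Commute d c) (C : VCoord D d B {a | a ≠ 0}) (hZ : Subgroup.center G = ⊥) {ι : Type} [Fintype ι]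
    [DecidableEq ι] (Q : QuadraticForm (ZMod 2) (ι → ZMod 2)) (hQ : (polarBilin Q).Nondegenerate)
    (Ψ : Sp W ≃ₗ[ZMod 2] (ι → ZMod 2)) (hΨ : ∀ x, Q (Ψ x) = Qv C c x) :
    ∃ e : G ≃* ↥(Cfsg.isometryGroup (ZMod 2) ⇑Q),
      e '' D = {g : ↥(Cfsg.isometryGroup (ZMod 2) ⇑Q) | (g.1.1 - 1).rank = 1} := by
  classical
  obtain ⟨vec, ρ, hv, hsurj, hρD, hρm, hρinj, hρQ, hρsurj⟩ := space hB hdim hD hp hw hd hc hdc C hZ
  have hq := Qv_quad hB hdim hD hp hw hd hc hdc C
  have hpol : ∀ a b, polar (⇑Q) (Ψ a) (Ψ b) = Bv B a b := fun a b => by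
    rw [polar, ← map_add, hΨ, hΨ, hΨ, hq]
    ring
  let M : G → Matrix ι ι (ZMod 2) := fun g =>
    LinearMap.toMatrix' (Ψ.toLinearMap ∘ₗ (ρ g).toLinearMap ∘ₗ Ψ.symm.toLinearMap)
  have hM : ∀ g v, Matrix.mulVec (M g) v = Ψ (ρ g (Ψ.symm v)) := fun g v => by
    rw [← Matrix.toLin'_apply]
    simp [M]
  have hρ1 : ∀ x, ρ 1 x = x := fun x => (ρ 1).injective (by rw [← hρm, mul_one])
  let M' : G →* Matrix ι ι (ZMod 2) :=
    { toFun := M
      map_one' := Matrix.ext_of_mulVec_single fun i => by rw [hM, hρ1, LinearEquiv.apply_symm_apply, Matrix.one_mulVec]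
      map_mul' := fun g h => Matrix.ext_of_mulVec_single fun i => by
        rw [← Matrix.mulVec_mulVec, hM, hM, hM, LinearEquiv.symm_apply_apply, hρm] }
  have hmem : ∀ g, M'.toHomUnits g ∈ Cfsg.isometryGroup (ZMod 2) ⇑Q := fun g u _ => by
    show Q (Matrix.mulVec (M g) u) = Q u
    rw [hM, hΨ, hρQ, ← hΨ, LinearEquiv.apply_symm_apply]
  let φ : G →* ↥(Cfsg.isometryGroup (ZMod 2) ⇑Q) := M'.toHomUnits.codRestrict _ hmem
  have hφ : ∀ g v, Matrix.mulVec (φ g).1.1 v = Ψ (ρ g (Ψ.symm v)) := hM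
  have hinj : Function.Injective φ := (injective_iff_map_eq_one φ).mpr fun g hg => hρinj g fun x => by
    have h := hφ g (Ψ x)
    rw [hg, CfsgReflClass.iso_one Q, LinearEquiv.symm_apply_apply] at h
    exact Ψ.injective h.symm
  have hsur : Function.Surjective φ := by
    intro γ
    let L : Sp W →ₗ[ZMod 2] Sp W := Ψ.symm.toLinearMap ∘ₗ Matrix.toLin' γ.1.1 ∘ₗ Ψ.toLinearMap
    have hL : ∀ x, L x = Ψ.symm (Matrix.mulVec γ.1.1 (Ψ x)) := fun x => rfl
    have hLinj : Function.Injective L := fun x y e => by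
      rw [hL, hL] at e
      have h := congrArg (Matrix.mulVec (γ⁻¹).1.1) (Ψ.symm.injective e)
      rw [← CfsgReflClass.iso_mul Q, ← CfsgReflClass.iso_mul Q, inv_mul_cancel, CfsgReflClass.iso_one Q,
        CfsgReflClass.iso_one Q] at h
      exact Ψ.injective h
    obtain ⟨g, hg⟩ := hρsurj (LinearEquiv.ofBijective L ⟨hLinj, Finite.injective_iff_surjective.mp hLinj⟩) fun x => by
      show Qv C c (L x) = Qv C c x
      rw [← hΨ, ← hΨ, hL, LinearEquiv.apply_symm_apply, CfsgReflClass.iso_map Q]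
    refine ⟨g, CfsgReflClass.iso_ext Q fun v => ?_⟩
    rw [hφ, hg]
    show Ψ (L (Ψ.symm v)) = _
    rw [hL, LinearEquiv.apply_symm_apply, LinearEquiv.apply_symm_apply]
  have hrefl : ∀ t ∈ D, CfsgReflClass.IsRefl Q (φ t) (Ψ (vec t)) := by
    intro t ht
    have h1 : Q (Ψ (vec t)) = 1 := by rw [hΨ, hv t ht]
    refine ⟨by rw [h1]; exact one_ne_zero, fun v => ?_⟩
    rw [hφ, hρD t ht, h1, inv_one, one_mul, ZMod.neg_eq_self_mod_two, map_add, map_smul, LinearEquiv.apply_symm_apply,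
      ← hpol, LinearEquiv.apply_symm_apply, polar_comm]
  refine ⟨MulEquiv.ofBijective φ ⟨hinj, hsur⟩, Set.ext fun γ => ⟨?_, fun hγ => ?_⟩⟩
  · rintro ⟨t, ht, rfl⟩
    exact (CfsgReflClass.rank_one_iff hQ _).mpr ⟨_, hrefl t ht⟩
  · obtain ⟨v, hv'⟩ := (CfsgReflClass.rank_one_iff hQ γ).mp hγ
    obtain ⟨t, ht, e⟩ := hsurj (Ψ.symm v) (by rw [← hΨ, LinearEquiv.apply_symm_apply]; exact eq_one hv'.1)
    refine ⟨t, ht, CfsgReflClass.IsRefl.unique ?_ hv'⟩
    have h := hrefl t ht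
    rw [e, LinearEquiv.apply_symm_apply] at h
    exact h

/-- A hyperbolic local form gives the elliptic space. -/
theorem coords_minus (C : VCoord D d B {a | a ≠ 0}) {k : ℕ} (ψ : W ≃ₗ[ZMod 2] (Fin k ⊕ Fin k → ZMod 2))
    (hψ : ∀ w, gS C c w = Cfsg.quadFormPlus k (ZMod 2) (ψ w)) :
    ∃ Ψ : Sp W ≃ₗ[ZMod 2] ((Fin k ⊕ Fin k) ⊕ Fin 2 → ZMod 2), ∀ x, formM k (Ψ x) = Qv C c x := by
  let L : Sp W →ₗ[ZMod 2] ((Fin k ⊕ Fin k) ⊕ Fin 2 → ZMod 2) :=
    { toFun := fun x => Sum.elim (ψ x.2) ![x.1.1, x.1.2]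
      map_add' := fun x y => by
        funext i
        rcases i with i | i
        · simp
        · fin_cases i <;> simp
      map_smul' := fun a x => by
        funext i
        rcases i with i | i
        · simp
        · fin_cases i <;> simp }
  have hbij : Function.Bijective L := by
    refine ⟨fun x y h => ?_, fun v => ?_⟩
    · have h1 : ψ x.2 = ψ y.2 := funext fun i => congrFun h (.inl i)
      have h2 := congrFun h (.inr 0)
      have h3 := congrFun h (.inr 1)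
      simp [L] at h2 h3
      exact Prod.ext (Prod.ext h2 h3) (ψ.injective h1)
    · refine ⟨((v (.inr 0), v (.inr 1)), ψ.symm (fun i => v (.inl i))), funext fun i => ?_⟩
      rcases i with i | i
      · simp [L]
      · fin_cases i <;> simp [L]
  refine ⟨LinearEquiv.ofBijective L hbij, fun x => ?_⟩
  have hs : (∑ i : Fin k, ψ x.2 (.inl i) * ψ x.2 (.inr i)) = gS C c x.2 := (hψ x.2).symm
  show Cfsg.quadFormMinus k (ZMod 2) 1 1 (L x) = Qv C c x
  simp only [Cfsg.quadFormMinus, Qv, L, LinearMap.coe_mk, AddHom.coe_mk, Sum.elim_inl, Sum.elim_inr,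
    Matrix.cons_val_zero, Matrix.cons_val_one, hs]
  rcases two_cases x.1.1 with e | e <;> rcases two_cases x.1.2 with e' | e' <;> rw [e, e'] <;>
    (generalize gS C c x.2 = s; revert s; decide)

/-- An elliptic local form gives the hyperbolic space. -/
theorem coords_plus (C : VCoord D d B {a | a ≠ 0}) {k : ℕ} (ψ : W ≃ₗ[ZMod 2] ((Fin k ⊕ Fin k) ⊕ Fin 2 → ZMod 2))
    (hψ : ∀ w, gS C c w = Cfsg.quadFormMinus k (ZMod 2) 1 1 (ψ w)) :
    ∃ Ψ : Sp W ≃ₗ[ZMod 2] (Fin (k + 2) ⊕ Fin (k + 2) → ZMod 2), ∀ x, formP (k + 2) (Ψ x) = Qv C c x := by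
  let A : Sp W → Fin (k + 2) → ZMod 2 := fun x => Fin.cons (x.1.1 + x.1.2 + ψ x.2 (.inr 1))
    (Fin.cons (x.1.1 + ψ x.2 (.inr 0) + ψ x.2 (.inr 1)) fun i => ψ x.2 (.inl (.inl i)))
  let A' : Sp W → Fin (k + 2) → ZMod 2 := fun x => Fin.cons (x.1.2 + ψ x.2 (.inr 1))
    (Fin.cons (x.1.1 + ψ x.2 (.inr 0)) fun i => ψ x.2 (.inl (.inr i)))
  let L : Sp W →ₗ[ZMod 2] (Fin (k + 2) ⊕ Fin (k + 2) → ZMod 2) :=
    { toFun := fun x => Sum.elim (A x) (A' x)
      map_add' := fun x y => by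
        funext i
        rcases i with i | i <;> induction i using Fin.cases with
        | zero => simp [A, A']; ring
        | succ i => induction i using Fin.cases with
          | zero => simp [A, A']; ring
          | succ i => simp [A, A']
      map_smul' := fun a x => by
        funext i
        rcases i with i | i <;> induction i using Fin.cases with
        | zero => simp [A, A']; ring
        | succ i => induction i using Fin.cases with
          | zero => simp [A, A']; ring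
          | succ i => simp [A, A'] }
  have hinj : Function.Injective L := by
    intro x y h
    have e1 := congrFun h (.inl 0)
    have e2 := congrFun h (.inr 0)
    have e3 := congrFun h (.inl (Fin.succ 0))
    have e4 := congrFun h (.inr (Fin.succ 0))
    simp [L, A, A'] at e1 e2 e3 e4
    have k1 : ψ x.2 (.inr 1) = ψ y.2 (.inr 1) := by linear_combination e3 - e4
    have k2 : x.1.2 = y.1.2 := by linear_combination e2 - k1
    have k3 : x.1.1 = y.1.1 := by linear_combination e1 - e2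
    have k4 : ψ x.2 (.inr 0) = ψ y.2 (.inr 0) := by linear_combination e4 - k3
    refine Prod.ext (Prod.ext k3 k2) (ψ.injective (funext fun i => ?_))
    rcases i with (i | i) | i
    · have := congrFun h (.inl i.succ.succ)
      simpa [L, A, A'] using this
    · have := congrFun h (.inr i.succ.succ)
      simpa [L, A, A'] using this
    · fin_cases i
      · exact k4
      · exact k1
  have hbij : Function.Bijective L := by
    refine ⟨hinj, LinearMap.range_eq_top.mp (Submodule.eq_top_of_finrank_eq ?_)⟩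
    haveI : Module.Finite (ZMod 2) W := Module.Finite.of_finite
    rw [LinearMap.finrank_range_of_inj hinj, Module.finrank_prod, Module.finrank_prod, Module.finrank_self,
      ψ.finrank_eq, Module.finrank_fintype_fun_eq_card, Module.finrank_fintype_fun_eq_card]
    simp
    omega
  refine ⟨LinearEquiv.ofBijective L hbij, fun x => ?_⟩
  show Cfsg.quadFormPlus (k + 2) (ZMod 2) (L x) = Qv C c x
  simp only [Cfsg.quadFormPlus, Qv, hψ, Cfsg.quadFormMinus, L, A, A', LinearMap.coe_mk, AddHom.coe_mk, Sum.elim_inl,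
    Sum.elim_inr, Fin.sum_univ_succ, Fin.cons_zero, Fin.cons_succ]
  generalize (∑ i : Fin k, ψ x.2 (.inl (.inl i)) * ψ x.2 (.inl (.inr i))) = s
  generalize x.1.1 = a
  generalize x.1.2 = b
  generalize ψ x.2 (.inr 0) = z
  generalize ψ x.2 (.inr 1) = z'
  revert s a b z z'
  decide

theorem nondeg_quad {q : W → ZMod 2} (hB : IsSymp B) (hq : IsQuad B q) :
    CfsgLib.FiniteForms.PolarNondeg hq.form := fun x h =>
  hB.nd x fun y => by rw [← hq.polar_form]; exact h y

/-- The local form is hyperbolic or elliptic. -/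
theorem local_cases (hB : IsSymp B) {m : ℕ} (hdimW : Module.finrank (ZMod 2) W = 2 * m) (hm : 2 ≤ m)
    (hD : IsThreeTranspositionClass D) (hp : IsPrimitiveUnderConj D) (hw : ∃ a ∈ D, ∃ b ∈ D, a ≠ b ∧ Commute a b)
    (hd : d ∈ D) (hc : c ∈ D) (hdc : ¬ Commute d c) (C : VCoord D d B {a | a ≠ 0}) :
    (∃ ψ : W ≃ₗ[ZMod 2] (Fin m ⊕ Fin m → ZMod 2), ∀ w, gS C c w = Cfsg.quadFormPlus m (ZMod 2) (ψ w)) ∨
      ∃ ψ : W ≃ₗ[ZMod 2] ((Fin (m - 1) ⊕ Fin (m - 1)) ⊕ Fin 2 → ZMod 2),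
        ∀ w, gS C c w = Cfsg.quadFormMinus (m - 1) (ZMod 2) 1 1 (ψ w) := by
  haveI : Module.Finite (ZMod 2) W := Module.Finite.of_finite
  have hq := gS_quad C hB (by omega) hD hp hw hd hc hdc
  rcases CfsgLib.FiniteForms.even_dichotomy (nondeg_quad hB hq) (m := m) (by omega) hdimW with
    ⟨e, f, h⟩ | ⟨e, f, x, y, h, hx, hy, hQx, hxy, ht, hli⟩
  · exact Or.inl (CfsgLib.FiniteForms.isometry_of_hypFam h hdimW)
  · have hQy : hq.form y = 1 := eq_one fun e => by
      have := ht 0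
      rw [e] at this
      exact this (by ring)
    obtain ⟨g, hg⟩ := CfsgLib.FiniteForms.isometry_of_elliptic h hx hy hxy hQx hli (by omega)
    refine Or.inr ⟨g, fun w => ?_⟩
    have h' := hg w
    rwa [hQy] at h'

/-- The index of a vector of four coordinates. -/
def idx (w : (Fin 1 ⊕ Fin 1) ⊕ Fin 2 → ZMod 2) : Fin 16 :=
  ⟨(w (.inl (.inl 0))).val + 2 * (w (.inl (.inr 0))).val + 4 * (w (.inr 0)).val + 8 * (w (.inr 1)).val, by
    have h1 := ZMod.val_lt (w (.inl (.inl 0)))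
    have h2 := ZMod.val_lt (w (.inl (.inr 0)))
    have h3 := ZMod.val_lt (w (.inr 0))
    have h4 := ZMod.val_lt (w (.inr 1))
    omega⟩

/-- Pairs of six points for the vectors of four coordinates. -/
def pairs : Fin 16 → Fin 6 × Fin 6 :=
  ![(0, 0), (0, 1), (0, 2), (1, 2), (3, 4), (2, 5), (1, 5), (0, 5), (4, 5), (2, 3), (1, 3), (0, 3), (3, 5), (2, 4),
    (1, 4), (0, 4)]

/-- The transposition of a vector. -/
def six (w : (Fin 1 ⊕ Fin 1) ⊕ Fin 2 → ZMod 2) : Equiv.Perm (Fin 6) :=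
  Equiv.swap (pairs (idx w)).1 (pairs (idx w)).2

theorem six_swap : ∀ w, w ≠ 0 → (pairs (idx w)).1 ≠ (pairs (idx w)).2 := by decide +kernel

set_option synthInstance.maxSize 2000 in
theorem six_inj : ∀ w w', w ≠ 0 → w' ≠ 0 → six w = six w' → w = w' := by decide +kernel

theorem six_surj : ∀ a b : Fin 6, a ≠ b → ∃ w, w ≠ 0 ∧ six w = Equiv.swap a b := by decide +kernel

theorem six_rel : ∀ w, w ≠ 0 → (Cfsg.quadFormMinus 1 (ZMod 2) 1 1 w = 1 ↔
    (pairs (idx w)).1 ≠ 0 ∧ (pairs (idx w)).2 ≠ 0) := by decide +kernel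

set_option synthInstance.maxSize 2000 in
theorem six_comm : ∀ w w', w ≠ 0 → w' ≠ 0 →
    (six w * six w' = six w' * six w ↔ QuadraticMap.polar (Cfsg.quadFormMinus 1 (ZMod 2) 1 1) w w' = 0) := by
  unfold QuadraticMap.polar
  decide +kernel

set_option synthInstance.maxSize 2000 in
theorem six_conj : ∀ w w', w ≠ 0 → w' ≠ 0 → QuadraticMap.polar (Cfsg.quadFormMinus 1 (ZMod 2) 1 1) w w' = 1 →
    six w' * six w * six w' = six (w + w') := by
  unfold QuadraticMap.polar
  decide +kernel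

theorem six_sq (w : (Fin 1 ⊕ Fin 1) ⊕ Fin 2 → ZMod 2) : (six w)⁻¹ = six w := Equiv.swap_inv _ _

/-- An elliptic local form in dimension four gives the symmetric group of degree eight. -/
theorem sym_eight (hB : IsSymp B) (hdim : 4 ≤ Module.finrank (ZMod 2) W) (hD : IsThreeTranspositionClass D)
    (hp : IsPrimitiveUnderConj D) (hw : ∃ a ∈ D, ∃ b ∈ D, a ≠ b ∧ Commute a b) (hd : d ∈ D) (hc : c ∈ D)
    (hdc : ¬ Commute d c) (C : VCoord D d B {a | a ≠ 0})
    (ψ : W ≃ₗ[ZMod 2] ((Fin 1 ⊕ Fin 1) ⊕ Fin 2 → ZMod 2))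
    (hψ : ∀ w, gS C c w = Cfsg.quadFormMinus 1 (ZMod 2) 1 1 (ψ w)) : IsSymClass G D 8 := by
  have hq := gS_quad C hB hdim hD hp hw hd hc hdc
  have hpol : ∀ a b, QuadraticMap.polar (Cfsg.quadFormMinus 1 (ZMod 2) 1 1) (ψ a) (ψ b) = B a b := fun a b => by
    rw [QuadraticMap.polar, ← map_add, ← hψ, ← hψ, ← hψ, hq]
    ring
  have hne : ∀ x ∈ Ds D d, ψ (C.v x) ≠ 0 := fun x hx e => C.mem x hx (ψ.map_eq_zero_iff.mp e)
  have hcm : ∀ x ∈ Ds D d, ∀ y ∈ Ds D d, (Commute x y ↔ Commute (six (ψ (C.v x))) (six (ψ (C.v y)))) :=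
    fun x hx y hy => by
      rw [C.comm x hx y hy, ← hpol]
      exact (six_comm _ _ (hne x hx) (hne y hy)).symm
  let C6 : Coord D d (Sym.Swaps 6) :=
    { f := fun x => six (ψ (C.v x))
      mem := fun x hx => ⟨_, _, six_swap _ (hne x hx), rfl⟩
      inj := fun x hx y hy e => C.inj x hx y hy (ψ.injective (six_inj _ _ (hne x hx) (hne y hy) e))
      surj := fun t ht => by
        obtain ⟨a, b, hab, rfl⟩ := ht
        obtain ⟨w, hw0, e⟩ := six_surj a b hab
        obtain ⟨x, hx, ex⟩ := C.surj (ψ.symm w) (fun e' => hw0 (ψ.symm.map_eq_zero_iff.mp e'))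
        exact ⟨x, hx, by rw [ex, LinearEquiv.apply_symm_apply, e]⟩
      comm := hcm
      conj := fun x hx y hy => by
        by_cases h : Commute x y
        · rw [← h.eq, mul_inv_cancel_right, ← ((hcm x hx y hy).mp h).eq, mul_inv_cancel_right]
        · rw [C.conj x hx y hy h, map_add, six_sq]
          exact (six_conj _ _ (hne x hx) (hne y hy)
            (by rw [hpol]; exact eq_one fun e => h ((C.comm x hx y hy).mpr e))).symm }
  refine Sym.recognise (by norm_num) C6 hD hp hw hd hc hdc fun a b hab => ?_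
  obtain ⟨w, hw0, ew⟩ := six_surj a b hab
  have hkey : Sym.Rel C6 c a b ↔ Cfsg.quadFormMinus 1 (ZMod 2) 1 1 w = 1 := by
    constructor
    · rintro ⟨x, hx, ex⟩
      rw [← six_inj _ _ (hne x hx.1) hw0 (ex.trans ew.symm), ← hψ]
      exact (gS_iff C).mpr ⟨x, hx, rfl⟩
    · intro h
      rw [← ψ.apply_symm_apply w, ← hψ] at h
      obtain ⟨x, hx, ex⟩ := (gS_iff C).mp h
      refine ⟨x, hx, ?_⟩
      show six (ψ (C.v x)) = _
      rw [ex, LinearEquiv.apply_symm_apply, ew]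
  rw [hkey, six_rel w hw0]
  rcases Sym.swap_inj (six_swap w hw0) ew with ⟨e1, e2⟩ | ⟨e1, e2⟩ <;> rw [e1, e2]
  exact And.comm

end CfsgFischer.Symp

namespace CfsgFischer

open Cfsg CfsgThreeTrans FormTwo

universe u

/-- The step from a symplectic group, given the table of the smallest elliptic case. -/
theorem step_symp_of (m : ℕ)
    (hmodel : ∀ (G : Type u) [Group G] [Finite G] (D : Set G), IsMinusClass G D 2 →
      ∃ c : ZMod 3, c ≠ 0 ∧ Has G D (.refl 5 c c)) : Step.{u} (.symp m) := by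
  intro G _ _ D hP d hd hcores hhas
  obtain ⟨hm, e, he⟩ := hhas
  have hne : ∃ t ∈ {g : Matrix.symplecticGroup (Fin m) (ZMod 2) |
      ((g : Matrix (Fin m ⊕ Fin m) (Fin m ⊕ Fin m) (ZMod 2)) - 1).rank = 1}, t ≠ 1 := by
    refine ⟨SympTwo.tt (Pi.single (Sum.inl ⟨0, by omega⟩) 1), (SympTwo.rank_iff _).mpr ⟨_, ?_, rfl⟩, fun h => ?_⟩
    · simp
    · have h' := (SympTwo.rank_iff (SympTwo.tt (m := m) (Pi.single (Sum.inl ⟨0, by omega⟩) 1))).mpr
        ⟨_, by simp, rfl⟩
      rw [h] at h'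
      simp at h'
  obtain ⟨C0⟩ := coord_of_iso hP.cls hP.prim hP.pair hd hcores.2 hne e he
  obtain ⟨C⟩ := SympTwo.vcoord C0
  have hB := SympTwo.Bs_symp (m := m)
  have hdimW : Module.finrank (ZMod 2) (Fin m ⊕ Fin m → ZMod 2) = 2 * m := by simp; omega
  obtain ⟨c, hc, hdc⟩ := exists_noncommute hP.cls hP.prim.2.1 hd
  rcases Symp.local_cases hB hdimW hm hP.cls hP.prim hP.pair hd hc hdc C with ⟨ψ, hψ⟩ | ⟨ψ, hψ⟩
  · obtain ⟨Ψ, hΨ⟩ := Symp.coords_minus C ψ hψ
    obtain ⟨e', he'⟩ := Symp.transport hB (by omega) hP.cls hP.prim hP.pair hd hc hdc C hP.center (formM m)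
      (formM_nondeg m) Ψ hΨ
    have hM : IsMinusClass G D m := ⟨e', he'⟩
    rcases eq_or_lt_of_le hm with h2 | h3
    · subst h2
      obtain ⟨c3, hc3, hhas'⟩ := hmodel G D hM
      exact ⟨.refl 5 c3 c3, Or.inl ⟨rfl, Or.inr ⟨c3, hc3, rfl⟩⟩, hhas'⟩
    · exact ⟨.orth false (m + 1), Or.inr ⟨h3, false, rfl⟩, by omega, hM⟩
  · rcases eq_or_lt_of_le hm with h2 | h3
    · subst h2
      exact ⟨.sym 8, Or.inl ⟨rfl, Or.inl rfl⟩, by omega, by omega,
        Symp.sym_eight hB (by omega) hP.cls hP.prim hP.pair hd hc hdc C ψ hψ⟩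
    · obtain ⟨k, rfl⟩ : ∃ k, m = k + 1 := ⟨m - 1, by omega⟩
      obtain ⟨Ψ, hΨ⟩ := Symp.coords_plus C ψ hψ
      obtain ⟨e', he'⟩ := Symp.transport hB (by omega) hP.cls hP.prim hP.pair hd hc hdc C hP.center _
        (formP_nondeg _) Ψ hΨ
      exact ⟨.orth true (k + 1 + 1), Or.inr ⟨h3, true, rfl⟩, by omega, e', he'⟩

end CfsgFischer
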